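import Groth.Agent.S10337
import Groth.Agent.S2080
import Groth.Agent.AlgSpLib.Space
import Groth.Agent.AlgSpLib.Iso
import Groth.Agent.AlgSpLib.MorPack
import Groth.Agent.AlgSpLib.FibDimSp
/-!
# Generically finite morphisms of integral algebraic spaces: affine opens
-/

set_option autoImplicit false
set_option backward.isDefEq.respectTransparency false
set_option backward.isDefEq.respectTransparency.types false
universe u
open CategoryTheory CategoryTheory.Limits AlgebraicGeometry AlgSp Topology TopologicalSpace AlgSpLib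

namespace AlgSpGenFinLib

variable {S : Scheme.{u}}

/-- The restriction of an open immersion to an open of its source. -/
theorem repWith_restrict {F : Sp S} {U : Over S} {a : (yon S).obj U ⟶ F} (ha : RepWith @IsOpenImmersion a)
    (W : U.left.Opens) :
    RepWith @IsOpenImmersion ((yon S).map (Over.homMk W.ι rfl : Over.mk (W.ι ≫ U.hom) ⟶ U) ≫ a) :=
  repWith_comp ((repWith_yon_map_iff (P := @IsOpenImmersion) _).2 (inferInstanceAs (IsOpenImmersion W.ι))) ha

theorem range_restrict {F : Sp S} {U : Over S} (a : (yon S).obj U ⟶ F) (W : U.left.Opens) :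
    Set.range (Points.map ((yon S).map (Over.homMk W.ι rfl : Over.mk (W.ι ≫ U.hom) ⟶ U) ≫ a)) =
      Points.ofPt a '' (W : Set ↥U.left) := by
  rw [← range_ofPt]
  have h : Points.ofPt ((yon S).map (Over.homMk W.ι rfl : Over.mk (W.ι ≫ U.hom) ⟶ U) ≫ a) =
      fun w : ↥(W : Scheme) => Points.ofPt a (W.ι w) :=
    funext fun w => ofPt_yon_comp (Over.homMk W.ι rfl : Over.mk (W.ι ≫ U.hom) ⟶ U) a w
  rw [h, show (fun w : ↥(W : Scheme) => Points.ofPt a (W.ι w)) = Points.ofPt a ∘ W.ι from rfl, Set.range_comp]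
  exact congrArg (Points.ofPt a '' ·) W.range_ι

theorem injective_ofPt {F : Sp S} {U : Over S} {a : (yon S).obj U ⟶ F} (ha : RepWith @IsOpenImmersion a) :
    Function.Injective (Points.ofPt a) := by
  haveI := mono_of_openImmersion ha
  intro s t h
  rw [Points.ofPt_eq_map_ofScheme, Points.ofPt_eq_map_ofScheme] at h
  exact (Points.schemeEquiv U).injective (injective_map_of_mono a h)

theorem isOpen_range_ofPt {F : Sp S} {U : Over S} {a : (yon S).obj U ⟶ F} (ha : RepWith @IsOpenImmersion a) :
    IsOpen (Set.range (Points.ofPt a)) := by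
  rw [range_ofPt]
  exact (isOpenMap_map_of_isEtaleMor (IsAlgSpace.yon_obj U) (isEtaleMor_of_openImmersion ha)).isOpen_range

theorem isOpenMap_ofPt' {F : Sp S} {U : Over S} {a : (yon S).obj U ⟶ F} (ha : RepWith @IsOpenImmersion a) :
    IsOpenMap (Points.ofPt a) := by
  rw [ofPt_comp_ofScheme]
  exact (isOpenMap_map_of_isEtaleMor (IsAlgSpace.yon_obj U) (isEtaleMor_of_openImmersion ha)).comp
    (Points.schemeHomeo U).isOpenMap

/-- A point over the generic point is generic in an open subscheme. -/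
theorem closure_eq_univ {F : Sp S} {U : Over S} {a : (yon S).obj U ⟶ F} (ha : RepWith @IsOpenImmersion a)
    {y : Points F} (hy : IsGenericPoint y (Set.univ : Set (Points F))) {v : ↥U.left} (hv : Points.ofPt a v = y) :
    closure ({v} : Set ↥U.left) = Set.univ := by
  have h1 := (isOpenMap_ofPt' ha).preimage_closure_eq_closure_preimage (Points.continuous_ofPt a) {y}
  rw [hy.def, Set.preimage_univ] at h1
  rw [h1]
  congr 1
  ext t
  simp only [Set.mem_singleton_iff, Set.mem_preimage, ← hv]
  exact ⟨fun h => by rw [h], fun h => injective_ofPt ha h⟩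

/-- In a decent integral space the generic point has an affine open neighbourhood inside every open containing it. -/
theorem exists_affine_nhd {X : Space S} (hd : IsDecent X.obj) {x : Points X.obj}
    (hx : IsGenericPoint x (Set.univ : Set (Points X.obj))) {O : Set (Points X.obj)} (hO : IsOpen O) (hxO : x ∈ O) :
    ∃ (U : Over S) (a : (yon S).obj U ⟶ X.obj), IsAffine U.left ∧ RepWith @IsOpenImmersion a ∧
      x ∈ Set.range (Points.ofPt a) ∧ Set.range (Points.map a) ⊆ O := by
  obtain ⟨X', j, hj, hrep, hdense⟩ := Groth.Agent.S10337.result X hd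
  obtain ⟨T, ⟨e⟩⟩ := hrep.has_representation
  let φ : (yon S).obj T ⟶ X.obj := (AlgSp.isoOfRepresentableBy e).hom ≫ j.hom
  have hφ : RepWith @IsOpenImmersion φ := repWith_comp (repWith_of_isIso _) hj
  haveI : Nonempty (Points X.obj) := ⟨x⟩
  obtain ⟨z, w, hw⟩ := hdense.nonempty
  obtain ⟨w', rfl⟩ := (isHomeomorph_map_of_isIso (AlgSp.isoOfRepresentableBy e).hom).surjective w
  have hwr : z ∈ Set.range (Points.map φ) := ⟨w', (Points.map_comp _ _ w').trans hw⟩
  rw [← range_ofPt] at hwr
  obtain ⟨t, ht⟩ := (hx.specializes (trivial : z ∈ Set.univ)).mem_open (isOpen_range_ofPt hφ) hwr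
  obtain ⟨_, ⟨W, hW, rfl⟩, htW, hWO⟩ := T.left.isBasis_affineOpens.exists_subset_of_mem_open
    (show t ∈ Points.ofPt φ ⁻¹' O by rwa [Set.mem_preimage, ht]) (hO.preimage (Points.continuous_ofPt φ))
  refine ⟨Over.mk (Scheme.Opens.ι W ≫ T.hom), _, hW, repWith_restrict hφ W, ?_, ?_⟩
  · rw [range_ofPt, range_restrict]
    exact ⟨t, htW, ht⟩
  · rw [range_restrict]
    exact Set.image_subset_iff.2 hWO

/-- Affine opens with a finite map, when the generic point is the only one over the generic point. -/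
theorem exists_finite_opens {X Y : Space S} (hXd : IsDecent X.obj) (hYd : IsDecent Y.obj) (f : X ⟶ Y)
    (hft : LocP @LocallyOfFiniteType f.hom) {x : Points X.obj}
    (hx : IsGenericPoint x (Set.univ : Set (Points X.obj))) {y : Points Y.obj}
    (hy : IsGenericPoint y (Set.univ : Set (Points Y.obj))) (hxy : Points.map f.hom x = y)
    (hu : ∀ x' : Points X.obj, Points.map f.hom x' = y → x' = x) :
    ∃ (U V : Over S) (a : (yon S).obj U ⟶ X.obj) (b : (yon S).obj V ⟶ Y.obj) (g : U ⟶ V),
      IsAffine U.left ∧ IsAffine V.left ∧ RepWith @IsOpenImmersion a ∧ RepWith @IsOpenImmersion b ∧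
        a ≫ f.hom = (yon S).map g ≫ b ∧ IsFinite g.left ∧
          x ∈ Set.range (Points.ofPt a) ∧ y ∈ Set.range (Points.ofPt b) := by
  obtain ⟨V, b, hV, hb, ⟨v, hv⟩, -⟩ := exists_affine_nhd hYd hy isOpen_univ (Set.mem_univ y)
  obtain ⟨U, a, hU, ha, ⟨t, ht⟩, hUO⟩ := exists_affine_nhd hXd hx
    ((isOpen_range_ofPt hb).preimage (Points.continuous_map f.hom)) (show Points.map f.hom x ∈ Set.range (Points.ofPt b) from ⟨v, hv.trans hxy.symm⟩)
  obtain ⟨c, hc⟩ := (exists_factor_iff hb (a ≫ f.hom)).2 (by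
    rintro _ ⟨z, rfl⟩
    rw [Points.map_comp, ← range_ofPt]
    exact hUO ⟨z, rfl⟩)
  obtain ⟨g, rfl⟩ := (yon S).map_surjective c
  haveI := hU
  haveI := hV
  haveI := isAffineHom_of_isAffine g.left
  haveI : LocallyOfFiniteType g.left := hft a b g (repWith_mono (Q := @Etale) (fun _ _ h (_ : IsOpenImmersion h) =>
    inferInstance) ha) (repWith_mono (Q := @Etale) (fun _ _ h (_ : IsOpenImmersion h) => inferInstance) hb) hc.symm
  have hmap : ∀ s, Points.ofPt b (g.left s) = Points.map f.hom (Points.ofPt a s) := fun s => by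
    rw [← ofPt_yon_comp, hc, Points.map_ofPt]
  have hfin : (g.left.base ⁻¹' {v}).Finite := by
    refine Set.Subsingleton.finite fun s hs s' hs' => injective_ofPt ha ?_
    rw [hu _ ((hmap s).symm.trans ((congrArg (Points.ofPt b) hs).trans hv)),
      hu _ ((hmap s').symm.trans ((congrArg (Points.ofPt b) hs').trans hv))]
  have hirr : IrreducibleSpace ↥V.left := by
    haveI : Nonempty ↥V.left := ⟨v⟩
    haveI : PreirreducibleSpace ↥V.left :=
      ⟨(closure_eq_univ hb hy hv ▸ isIrreducible_singleton.closure).isPreirreducible⟩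
    exact ⟨inferInstance⟩
  have hcomp : closure ({v} : Set ↥V.left) ∈ irreducibleComponents ↥V.left := by
    rw [closure_eq_univ hb hy hv, irreducibleComponents_eq_singleton]
    rfl
  obtain ⟨W, hW, hvW, hgW⟩ := (Groth.Agent.S2080.result g.left v hcomp).1 hfin
  haveI := hgW
  haveI : IsAffine (W : Scheme) := hW
  refine ⟨Over.mk ((g.left ⁻¹ᵁ W).ι ≫ U.hom), Over.mk (W.ι ≫ V.hom),
    (yon S).map (Over.homMk (g.left ⁻¹ᵁ W).ι rfl) ≫ a, (yon S).map (Over.homMk W.ι rfl) ≫ b,
    Over.homMk (g.left ∣_ W) (by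
      show (g.left ∣_ W) ≫ W.ι ≫ V.hom = (g.left ⁻¹ᵁ W).ι ≫ U.hom
      rw [morphismRestrict_ι_assoc, Over.w g]),
    hW.preimage g.left, hW, repWith_restrict ha _, repWith_restrict hb _, ?_, hgW, ?_, ?_⟩
  · rw [Category.assoc, ← hc, ← Category.assoc, ← Category.assoc, ← Functor.map_comp, ← Functor.map_comp]
    congr 2
    ext : 1
    exact (morphismRestrict_ι g.left W).symm
  · rw [range_ofPt, range_restrict]
    refine ⟨t, ?_, ht⟩
    show g.left t ∈ W
    rw [injective_ofPt hb ((hmap t).trans (ht ▸ hxy.trans hv.symm))]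
    exact hvW
  · rw [range_ofPt, range_restrict]
    exact ⟨v, hvW, hv⟩

/-- An open immersion into the source with range the preimage gives a pullback square. -/
theorem isPullback_of_preimage {X Y : Sp S} {f : X ⟶ Y} {U V : Over S} {a : (yon S).obj U ⟶ X}
    (ha : RepWith @IsOpenImmersion a) {b : (yon S).obj V ⟶ Y} (hb : RepWith @IsOpenImmersion b) {g : U ⟶ V}
    (e : a ≫ f = (yon S).map g ≫ b)
    (h : Points.map f ⁻¹' Set.range (Points.map b) ⊆ Set.range (Points.map a)) :
    IsPullback a ((yon S).map g) f b := by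
  haveI := mono_of_openImmersion ha
  haveI := mono_of_openImmersion hb
  have hl : ∀ {Z : Sp S} (s : Z ⟶ X) (t : Z ⟶ (yon S).obj V), s ≫ f = t ≫ b → ∃ l, l ≫ a = s := by
    intro Z s t hst
    refine (exists_factor_iff ha s).2 ?_
    rintro _ ⟨z, rfl⟩
    exact h ⟨Points.map t z, by rw [← Points.map_comp, ← Points.map_comp, hst]⟩
  refine ⟨⟨e⟩, ⟨PullbackCone.IsLimit.mk e (fun c => (hl c.fst c.snd c.condition).choose)
    (fun c => (hl c.fst c.snd c.condition).choose_spec)
    (fun c => (cancel_mono b).1 ?_)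
    (fun c m h1 _ => (cancel_mono a).1 (h1.trans (hl c.fst c.snd c.condition).choose_spec.symm))⟩⟩
  rw [Category.assoc, ← e, ← Category.assoc, (hl c.fst c.snd c.condition).choose_spec, c.condition]

end AlgSpGenFinLib
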